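import Groth.Agent.LCIDef.Lift
import Groth.Agent.NilAffine.Main
import Groth.Prelude.Def_ArtFun4
import Groth.Prelude.Def_LCI2
import Mathlib.RingTheory.RingHom.Flat

/-!
# Smoothness of the deformation functor of an affine local complete intersection
-/

set_option autoImplicit false
set_option linter.style.haveILetI false
set_option backward.isDefEq.respectTransparency false
set_option maxHeartbeats 1000000
set_option synthInstance.maxHeartbeats 400000

universe u

open CategoryTheory CategoryTheory.Limits AlgebraicGeometry IsLocalRing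

noncomputable section

namespace Groth.Agent.LCIDef

open KoszulLib

theorem map_maximalIdeal {C A : Type u} [CommRing C] [IsLocalRing C] [CommRing A] [IsLocalRing A]
    (μ : C →+* A) (hμ : Function.Surjective μ) : (maximalIdeal C).map μ = maximalIdeal A := by
  have h : (maximalIdeal A).comap μ = maximalIdeal C :=
    IsLocalRing.eq_maximalIdeal (Ideal.comap_isMaximal_of_surjective μ hμ)
  rw [← h, Ideal.map_comap_of_surjective μ hμ]

theorem lift_apply {R S T : Type u} [CommRing R] [CommRing S] [CommRing T] (v : R →+* S)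
    (hv : Function.Surjective v) (g : { g : R →+* T // RingHom.ker v ≤ RingHom.ker g }) (t : R) :
    v.liftOfSurjective hv g (v t) = g.1 t :=
  v.liftOfRightInverse_comp_apply _ (Function.rightInverse_surjInv hv) g t

/-- Transport of Koszul regularity along a surjection and its quotient by the kernel. -/
theorem kAt_quot {P Q : Type u} [CommRing P] [CommRing Q] (m : P →+* Q) (hm : Function.Surjective m)
    (M : Ideal P) (hM : RingHom.ker m = M) (J : Ideal P) (hJ : LCI.IsKoszulRegularIdeal (J.map m))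
    (z : PrimeSpectrum (P ⧸ M)) : KAt (J.map (Ideal.Quotient.mk M)) z.asIdeal := by
  subst hM
  let e : P ⧸ RingHom.ker m ≃+* Q := RingHom.quotientKerEquivOfSurjective hm
  letI : Algebra Q (P ⧸ RingHom.ker m) := e.symm.toRingHom.toAlgebra
  haveI : Module.Flat Q (P ⧸ RingHom.ker m) := RingHom.Flat.of_bijective e.symm.bijective
  have h := KAt.map (Q := z.asIdeal) (isKoszulRegularIdeal_iff.mp hJ
    ⟨z.asIdeal.comap (algebraMap Q (P ⧸ RingHom.ker m)), inferInstance⟩)
  have hcomp : (algebraMap Q (P ⧸ RingHom.ker m)).comp m = Ideal.Quotient.mk (RingHom.ker m) :=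
    RingHom.ext fun p => e.symm_apply_eq.mpr rfl
  rw [Ideal.map_map, hcomp] at h
  exact h

/-- A square of surjections is cocartesian when the kernel is extended. -/
theorem isPushout_of_ker {R S T U : Type u} [CommRing R] [CommRing S] [CommRing T] [CommRing U]
    (f : R →+* S) (g : R →+* T) (v : T →+* U) (h : S →+* U) (hf : Function.Surjective f)
    (hv : Function.Surjective v) (hker : RingHom.ker v = (RingHom.ker f).map g)
    (w : v.comp g = h.comp f) :
    IsPushout (CommRingCat.ofHom g) (CommRingCat.ofHom f) (CommRingCat.ofHom v) (CommRingCat.ofHom h) := by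
  have w' : CommRingCat.ofHom g ≫ CommRingCat.ofHom v = CommRingCat.ofHom f ≫ CommRingCat.ofHom h := by
    ext1; exact w
  let desc : ∀ s : Limits.PushoutCocone (CommRingCat.ofHom g) (CommRingCat.ofHom f),
      CommRingCat.of U ⟶ s.pt := fun s =>
    CommRingCat.ofHom (v.liftOfSurjective hv ⟨s.inl.hom, by
      rw [hker, Ideal.map_le_iff_le_comap]
      intro x hx
      rw [Ideal.mem_comap, RingHom.mem_ker]
      have h2 : s.inl.hom (g x) = s.inr.hom (f x) := congrArg (fun φ => φ.hom x) s.condition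
      rw [h2, RingHom.mem_ker.mp hx, map_zero]⟩)
  refine IsPushout.of_isColimit' ⟨w'⟩ (Limits.PushoutCocone.IsColimit.mk _ desc ?_ ?_ ?_)
  · intro s
    ext t
    exact lift_apply v hv _ t
  · intro s
    ext c
    obtain ⟨r, rfl⟩ := hf c
    have h2 : s.inl.hom (g r) = s.inr.hom (f r) := congrArg (fun φ => φ.hom r) s.condition
    show (desc s).hom (h (f r)) = _
    rw [show h (f r) = v (g r) from (RingHom.congr_fun w r).symm]
    exact (lift_apply v hv _ (g r)).trans h2
  · intro s m hm1 hm2
    ext x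
    obtain ⟨t, rfl⟩ := hv x
    refine (congrArg (fun φ => φ.hom t) hm1).trans ?_
    simp only [desc, CommRingCat.hom_ofHom, lift_apply]

theorem surjective_of_closedImmersion {R S : Type u} [CommRing R] [CommRing S] (f : R →+* S)
    [IsClosedImmersion (Spec.map (CommRingCat.ofHom f))] : Function.Surjective f := by
  intro y
  obtain ⟨z, hz⟩ := (IsClosedImmersion.isAffine_surjective_of_isAffine
    (Spec.map (CommRingCat.ofHom f))).2 ((Scheme.ΓSpecIso (CommRingCat.of S)).inv y)
  refine ⟨(Scheme.ΓSpecIso (CommRingCat.of R)).hom z, ?_⟩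
  have h2 : (Scheme.ΓSpecIso (CommRingCat.of S)).hom
      ((Spec.map (CommRingCat.ofHom f)).appTop z) = f ((Scheme.ΓSpecIso (CommRingCat.of R)).hom z) :=
    ConcreteCategory.congr_hom (Scheme.ΓSpecIso_naturality (CommRingCat.ofHom f)) z
  rw [hz] at h2
  exact h2.symm.trans (by simp)

/-- A polynomial presentation of the closed fibre lifts to a surjection. -/
theorem surjective_of_mod {A T P : Type u} [CommRing A] [IsLocalRing A] [IsArtinianRing A] [CommRing T]
    [CommRing P] (φ : A →+* T) (ψ : P →+* T) (hA : ∀ a, φ a ∈ ψ.range)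
    (h : ∀ y, ∃ p, y - ψ p ∈ (maximalIdeal A).map φ) : Function.Surjective ψ := by
  obtain ⟨n, hn⟩ := FlatLift.exists_pow_eq_bot A
  have key : ∀ j : ℕ, ∀ y, ∃ p, y - ψ p ∈ (maximalIdeal A ^ j).map φ := by
    intro j
    induction j with
    | zero => intro y; exact ⟨0, by simp [Ideal.map_top]⟩
    | succ j ih =>
      have h2 : ∀ x ∈ (maximalIdeal A ^ j).map φ, ∃ p, x - ψ p ∈ (maximalIdeal A ^ (j + 1)).map φ := by
        intro x hx
        induction hx using Submodule.span_induction with
        | mem x hx =>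
          obtain ⟨a, ha, rfl⟩ := hx
          obtain ⟨p, hp⟩ := hA a
          exact ⟨p, by simp [hp]⟩
        | zero => exact ⟨0, by simp⟩
        | add x y _ _ hx hy =>
          obtain ⟨p, hp⟩ := hx
          obtain ⟨q, hq⟩ := hy
          refine ⟨p + q, ?_⟩
          rw [map_add, add_sub_add_comm]
          exact add_mem hp hq
        | smul c x hx' hx =>
          obtain ⟨p, hp⟩ := hx
          obtain ⟨q, hq⟩ := h c
          refine ⟨q * p, ?_⟩
          rw [smul_eq_mul, map_mul, show c * x - ψ q * ψ p = (c - ψ q) * x + ψ q * (x - ψ p) by ring]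
          refine add_mem ?_ (Ideal.mul_mem_left _ _ hp)
          rw [pow_succ, Ideal.map_mul, mul_comm (c - ψ q) x]
          exact Ideal.mul_mem_mul hx' hq
      intro y
      obtain ⟨p, hp⟩ := ih y
      obtain ⟨q, hq⟩ := h2 _ hp
      exact ⟨p + q, by rwa [map_add, ← sub_sub]⟩
  intro y
  obtain ⟨p, hp⟩ := key n y
  rw [hn, Ideal.map_bot, Ideal.mem_bot, sub_eq_zero] at hp
  exact ⟨p, hp.symm⟩

/-- **Lifting a flat deformation of a complete intersection algebra.** -/
theorem exists_lift_algebra {k C A T A₀ : Type u} [Field k] [CommRing C] [IsLocalRing C] [IsArtinianRing C]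
    [CommRing A] [IsLocalRing A] [IsArtinianRing A] [CommRing T] [CommRing A₀] [Algebra k A₀]
    (μ : C →+* A) (hμ : Function.Surjective μ) (resA : A →+* k) (hresA : Function.Surjective resA)
    (φ : A →+* T) (hφ : φ.Flat) (qT : T →+* A₀) (hq : Function.Surjective qT)
    (hkq : RingHom.ker qT = (maximalIdeal A).map φ) (hw : qT.comp φ = (algebraMap k A₀).comp resA)
    (hA : LCI.IsLCI k A₀) :
    ∃ (T' : Type u) (_ : CommRing T') (φ' : C →+* T') (χ : T' →+* T),
      φ'.Flat ∧ Function.Surjective χ ∧ χ.comp φ' = φ.comp μ ∧ RingHom.ker χ = (RingHom.ker μ).map φ' := by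
  classical
  obtain ⟨-, n, f₀, hf₀, hreg⟩ := hA
  have hres : Function.Surjective (resA.comp μ) := hresA.comp hμ
  haveI : (RingHom.ker (resA.comp μ)).IsMaximal := RingHom.ker_isMaximal_of_surjective _ hres
  have hkres : RingHom.ker (resA.comp μ) = maximalIdeal C := IsLocalRing.eq_maximalIdeal inferInstance
  let mapk : MvPolynomial (Fin n) C →+* MvPolynomial (Fin n) k := MvPolynomial.map (resA.comp μ)
  have hmapk : Function.Surjective mapk := MvPolynomial.map_surjective _ hres
  let mapμ : MvPolynomial (Fin n) C →+* MvPolynomial (Fin n) A := MvPolynomial.map μ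
  have hmapμ : Function.Surjective mapμ := MvPolynomial.map_surjective _ hμ
  let M := (maximalIdeal C).map (algebraMap C (MvPolynomial (Fin n) C))
  have hkM : RingHom.ker mapk = M := by rw [MvPolynomial.ker_map, hkres]; rfl
  choose t ht using fun i => hq (f₀ (MvPolynomial.X i))
  letI : Algebra A T := φ.toAlgebra
  haveI : Module.Flat A T := hφ
  let ψA : MvPolynomial (Fin n) A →ₐ[A] T := MvPolynomial.aeval t
  let ψ : MvPolynomial (Fin n) C →+* T := ψA.toRingHom.comp mapμ
  have hqψ : qT.comp ψ = f₀.toRingHom.comp mapk := by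
    refine MvPolynomial.ringHom_ext (fun c => ?_) fun i => ?_
    · simp only [RingHom.coe_comp, Function.comp_apply, ψ, mapk, mapμ, AlgHom.toRingHom_eq_coe, RingHom.coe_coe,
        MvPolynomial.map_C]
      rw [← MvPolynomial.algebraMap_eq, ← MvPolynomial.algebraMap_eq, AlgHom.commutes, AlgHom.commutes]
      exact RingHom.congr_fun hw (μ c)
    · simp [ψ, mapk, mapμ, ψA, ht]
  have hψC : ∀ c, ψ (MvPolynomial.C c) = φ (μ c) := fun c => by
    show ψA (mapμ (MvPolynomial.C c)) = _
    rw [show mapμ (MvPolynomial.C c) = MvPolynomial.C (μ c) from MvPolynomial.map_C μ c,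
      ← MvPolynomial.algebraMap_eq, AlgHom.commutes]
    rfl
  have hψ : Function.Surjective ψ := by
    refine surjective_of_mod φ ψ (fun a => ?_) fun y => ?_
    · obtain ⟨c, rfl⟩ := hμ a
      exact ⟨_, hψC c⟩
    · obtain ⟨p, hp⟩ := (hf₀.comp hmapk) (qT y)
      refine ⟨p, hkq ▸ RingHom.mem_ker.mpr ?_⟩
      rw [map_sub, sub_eq_zero, ← hp]
      exact (RingHom.congr_fun hqψ p).symm
  have hψM : (maximalIdeal A).map φ = M.map ψ := by
    rw [← map_maximalIdeal μ hμ, Ideal.map_map, Ideal.map_map]
    exact congrArg (fun g => Ideal.map g (maximalIdeal C)) (RingHom.ext fun c => (hψC c).symm)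
  let J := RingHom.ker ψ
  let K := RingHom.ker mapμ
  have hKJ : K ≤ J := fun x hx => by
    rw [RingHom.mem_ker] at hx ⊢
    show ψA (mapμ x) = 0
    rw [hx, map_zero]
  have hKC : K = (RingHom.ker μ).map (algebraMap C (MvPolynomial (Fin n) C)) := by
    show RingHom.ker mapμ = _
    rw [MvPolynomial.ker_map]; rfl
  have hKM : K ≤ M := hKC ▸ Ideal.map_mono (IsLocalRing.le_maximalIdeal (RingHom.ker_ne_top μ))
  have hflat : J ⊓ M ≤ M * J ⊔ K := by
    intro x hx
    have hMA : M.map mapμ = (maximalIdeal A).map (algebraMap A (MvPolynomial (Fin n) A)) := by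
      rw [← map_maximalIdeal μ hμ, Ideal.map_map, Ideal.map_map]
      congr 1
      ext c
      simp [mapμ, MvPolynomial.algebraMap_eq]
    have hψA : Function.Surjective ψA := fun y => by
      obtain ⟨p, hp⟩ := hψ y
      exact ⟨mapμ p, hp⟩
    have hJA : RingHom.ker ψA.toRingHom = J.map mapμ := by
      show _ = (RingHom.ker (ψA.toRingHom.comp mapμ)).map mapμ
      rw [← RingHom.comap_ker, Ideal.map_comap_of_surjective _ hmapμ]
    have h1 := EGA41FS.inf_map_le_mul (maximalIdeal A) ψA hψA
      (show mapμ x ∈ RingHom.ker ψA.toRingHom ⊓ (maximalIdeal A).map (algebraMap A (MvPolynomial (Fin n) A)) from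
        ⟨hJA ▸ Ideal.mem_map_of_mem mapμ hx.1, hMA ▸ Ideal.mem_map_of_mem mapμ hx.2⟩)
    rw [hJA, ← hMA, ← Ideal.map_mul, ← Ideal.mem_comap, Ideal.comap_map_of_surjective _ hmapμ] at h1
    exact h1
  -- the closed fibre
  have hJk : J.map mapk = RingHom.ker f₀.toRingHom := by
    refine le_antisymm (Ideal.map_le_iff_le_comap.mpr fun p hp => ?_) fun p hp => ?_
    · rw [Ideal.mem_comap, RingHom.mem_ker, ← RingHom.comp_apply, ← hqψ, RingHom.comp_apply,
        RingHom.mem_ker.mp hp, map_zero]
    · obtain ⟨p, rfl⟩ := hmapk p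
      have h1 : ψ p ∈ M.map ψ := by
        rw [← hψM, ← hkq, RingHom.mem_ker, ← RingHom.comp_apply, hqψ]
        exact RingHom.mem_ker.mp hp
      rw [← Ideal.mem_comap, Ideal.comap_map_of_surjective _ hψ] at h1
      obtain ⟨y, hy, z, hz, rfl⟩ := Submodule.mem_sup.mp h1
      rw [map_add, RingHom.mem_ker.mp (hkM ▸ hy), zero_add]
      exact Ideal.mem_map_of_mem mapk hz
  have hKAt : ∀ z : PrimeSpectrum (MvPolynomial (Fin n) C ⧸ M),
      KAt (J.map (Ideal.Quotient.mk M)) z.asIdeal :=
    kAt_quot mapk hmapk M hkM J (hJk ▸ hreg)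
  obtain ⟨J', hJ'J, hJJ', hflat'⟩ := exists_flat_lift J K hKJ hKM hflat hKAt
  refine ⟨MvPolynomial (Fin n) C ⧸ J', inferInstance, algebraMap C _,
    Ideal.Quotient.lift J' ψ (fun x hx => RingHom.mem_ker.mp (hJ'J hx)), RingHom.flat_algebraMap_iff.mpr hflat',
    Ideal.Quotient.lift_surjective_of_surjective _ _ hψ, RingHom.ext fun c => hψC c, ?_⟩
  rw [show algebraMap C (MvPolynomial (Fin n) C ⧸ J') = (Ideal.Quotient.mk J').comp (algebraMap C _) from rfl,
    ← Ideal.map_map, ← hKC]
  refine le_antisymm (fun x hx => ?_) (Ideal.map_le_iff_le_comap.mpr fun x hx => ?_)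
  · obtain ⟨x, rfl⟩ := Ideal.Quotient.mk_surjective x
    obtain ⟨y, hy, z, hz, rfl⟩ := Submodule.mem_sup.mp (hJJ' (RingHom.mem_ker.mpr (by simpa using hx) : x ∈ J))
    rw [map_add, Ideal.Quotient.eq_zero_iff_mem.mpr hy, zero_add]
    exact Ideal.mem_map_of_mem _ hz
  · rw [Ideal.mem_comap, RingHom.mem_ker, Ideal.Quotient.lift_mk]
    exact RingHom.mem_ker.mp (hKJ hx)

/-- **Smoothness of the deformation functor of an affine complete intersection.** -/
theorem isSmooth {Λ k A₀ : Type u} [CommRing Λ] [Field k] [Algebra Λ k] [CommRing A₀] [Algebra k A₀]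
    (hA : LCI.IsLCI k A₀) :
    ArtFun.IsSmoothFunctor (ArtFun.defFunctor (Λ := Λ) (Spec (CommRingCat.of A₀))
      (Spec.map (CommRingCat.ofHom (algebraMap k A₀)))) := by
  intro B A μ hμ c
  induction c using Quotient.inductionOn with
  | h ξ =>
  haveI : IsClosedImmersion (ArtFun.Art.specRes A) :=
    IsClosedImmersion.spec_of_surjective _ A.res_surjective
  haveI : Surjective (ArtFun.Art.specRes A) := ⟨fun p => by
    haveI : Subsingleton (PrimeSpectrum A) := ⟨fun a b => PrimeSpectrum.ext (by
      rw [IsLocalRing.eq_maximalIdeal (inferInstance : a.asIdeal.IsMaximal),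
        IsLocalRing.eq_maximalIdeal (inferInstance : b.asIdeal.IsMaximal)])⟩
    exact ⟨Classical.arbitrary (PrimeSpectrum k), Subsingleton.elim (α := PrimeSpectrum A) _ _⟩⟩
  haveI : IsClosedImmersion ξ.i := MorphismProperty.of_isPullback ξ.isPullback.flip inferInstance
  haveI : Surjective ξ.i := MorphismProperty.of_isPullback ξ.isPullback.flip inferInstance
  haveI : IsAffine ξ.total := NilAffine.isAffine_of_surjective ξ.i
  let T : Type u := Γ(ξ.total, ⊤)
  let eT : ξ.total ≅ Spec (CommRingCat.of T) := ξ.total.isoSpec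
  obtain ⟨φ, hφ⟩ := Spec.map_surjective (eT.inv ≫ ξ.f)
  obtain ⟨qT, hqT⟩ := Spec.map_surjective (ξ.i ≫ eT.hom)
  have hpb : IsPullback (Spec.map qT) (Spec.map (CommRingCat.ofHom (algebraMap k A₀)))
      (Spec.map φ) (ArtFun.Art.specRes A) := by
    rw [hφ, hqT]
    exact ξ.isPullback.of_iso (Iso.refl _) eT (Iso.refl _) (Iso.refl _) (by simp) (by simp) (by simp) (by simp)
  have hflatφ : φ.hom.Flat := by
    have : Flat (Spec.map φ) := by rw [hφ]; infer_instance
    exact (HasRingHomProperty.Spec_iff (P := @Flat)).1 this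
  haveI : IsClosedImmersion (Spec.map (CommRingCat.ofHom qT.hom)) := by
    rw [CommRingCat.ofHom_hom, hqT]; infer_instance
  have hq : Function.Surjective qT.hom := surjective_of_closedImmersion qT.hom
  have hw : qT.hom.comp φ.hom = (algebraMap k A₀).comp A.res.toRingHom := by
    have h := hpb.w
    rw [← Spec.map_comp, ← Spec.map_comp] at h
    exact congrArg CommRingCat.Hom.hom (Spec.map_injective h)
  have hm : maximalIdeal A = RingHom.ker A.res.toRingHom := by
    ext a
    exact A.mem_maximalIdeal_iff a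
  have hkq : RingHom.ker qT.hom = (maximalIdeal A).map φ.hom := by
    refine le_antisymm ?_ (Ideal.map_le_iff_le_comap.mpr fun a ha => ?_)
    · let mkZ := Ideal.Quotient.mk ((maximalIdeal A).map φ.hom)
      let u : k →+* T ⧸ (maximalIdeal A).map φ.hom := A.res.toRingHom.liftOfSurjective A.res_surjective
        ⟨mkZ.comp φ.hom, fun a ha => RingHom.mem_ker.mpr
          (Ideal.Quotient.eq_zero_iff_mem.mpr (Ideal.mem_map_of_mem _ (hm.symm ▸ ha)))⟩
      have hu : u.comp A.res.toRingHom = mkZ.comp φ.hom :=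
        RingHom.ext fun a => by
          simp only [u, RingHom.comp_apply]
          exact (lift_apply _ A.res_surjective _ a).trans rfl
      have hcone : Spec.map (CommRingCat.ofHom mkZ) ≫ Spec.map φ =
          Spec.map (CommRingCat.ofHom u) ≫ ArtFun.Art.specRes A := by
        rw [← Spec.map_comp, ← Spec.map_comp]
        exact congrArg Spec.map (CommRingCat.hom_ext hu.symm)
      obtain ⟨ψ, hψ⟩ := Spec.map_surjective (hpb.lift _ _ hcone)
      have h := hpb.lift_fst _ _ hcone
      rw [← hψ, ← Spec.map_comp] at h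
      have h' := congrArg CommRingCat.Hom.hom (Spec.map_injective h)
      intro x hx
      rw [← Ideal.Quotient.eq_zero_iff_mem]
      exact (RingHom.congr_fun h' x).symm.trans ((congrArg ψ.hom (RingHom.mem_ker.mp hx)).trans (map_zero _))
    · rw [hm, RingHom.mem_ker] at ha
      rw [Ideal.mem_comap, RingHom.mem_ker, ← RingHom.comp_apply, hw, RingHom.comp_apply, ha, map_zero]
  obtain ⟨T', _, φ', χ, hflat', hχ, hχφ, hkχ⟩ :=
    exists_lift_algebra μ.toAlgHom.toRingHom hμ A.res.toRingHom A.res_surjective φ.hom hflatφ qT.hom hq hkq hw hA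
  have hμres : A.res.toRingHom.comp μ.toAlgHom.toRingHom = B.res.toRingHom :=
    congrArg AlgHom.toRingHom μ.res_comp
  have hmB : RingHom.ker B.res.toRingHom = maximalIdeal B := by
    ext a; exact (B.mem_maximalIdeal_iff a).symm
  have hkerμ : RingHom.ker μ.toAlgHom.toRingHom ≤ maximalIdeal B :=
    IsLocalRing.le_maximalIdeal (RingHom.ker_ne_top _)
  have hker' : RingHom.ker (qT.hom.comp χ) = (RingHom.ker B.res.toRingHom).map φ' := by
    rw [← RingHom.comap_ker, hkq, hmB, ← map_maximalIdeal μ.toAlgHom.toRingHom hμ, Ideal.map_map, ← hχφ,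
      ← Ideal.map_map, Ideal.comap_map_of_surjective _ hχ, ← RingHom.ker_eq_comap_bot, hkχ, sup_eq_left]
    exact Ideal.map_mono hkerμ
  have hw' : (qT.hom.comp χ).comp φ' = (algebraMap k A₀).comp B.res.toRingHom := by
    rw [RingHom.comp_assoc, hχφ, ← RingHom.comp_assoc, hw, RingHom.comp_assoc, hμres]
  let ξ' : ArtFun.DefSch (Spec (CommRingCat.of A₀)) (Spec.map (CommRingCat.ofHom (algebraMap k A₀))) B :=
    { total := Spec (CommRingCat.of T')
      f := Spec.map (CommRingCat.ofHom φ')
      flat := (HasRingHomProperty.Spec_iff (P := @Flat)).2 hflat'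
      i := Spec.map (CommRingCat.ofHom (qT.hom.comp χ))
      isPullback := isPullback_SpecMap_of_isPushout _ _ _ _
        (isPushout_of_ker _ _ _ _ B.res_surjective (hq.comp hχ) hker' hw') }
  refine ⟨ξ'.cl, ?_⟩
  show Quotient.mk _ (ξ'.baseChange μ) = Quotient.mk _ ξ
  refine Quotient.sound ⟨?_⟩
  have h : IsPullback (Spec.map (CommRingCat.ofHom χ)) (Spec.map φ) ξ'.f (ArtFun.Art.specMap μ) :=
    isPullback_SpecMap_of_isPushout _ _ _ _ (isPushout_of_ker _ _ _ _ hμ hχ hkχ hχφ)
  let ei := (IsPullback.of_hasPullback ξ'.f (ArtFun.Art.specMap μ)).isoIsPullback _ _ h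
  refine ⟨ei ≪≫ eT.symm, ?_, ?_⟩
  · show (ei.hom ≫ eT.inv) ≫ ξ.f = _
    rw [Category.assoc, ← hφ]
    exact IsPullback.isoIsPullback_hom_snd _ _ _ _
  · show (ξ'.baseChange μ).i ≫ ei.hom ≫ eT.inv = ξ.i
    rw [← Category.assoc, Iso.comp_inv_eq, ← hqT]
    apply h.hom_ext
    · rw [Category.assoc, IsPullback.isoIsPullback_hom_fst, ArtFun.DefSch.baseChange_i_fst]
      show Spec.map _ = Spec.map _ ≫ Spec.map _
      rw [← Spec.map_comp]
      rfl
    · rw [Category.assoc, IsPullback.isoIsPullback_hom_snd, ArtFun.DefSch.baseChange_i_f]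
      exact hpb.w.symm

end Groth.Agent.LCIDef
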