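import Groth.Agent.KoszulLib.ArtinLift
import Groth.Agent.KoszulLib.Conormal
import Groth.Agent.EGA41FS.FlatFibre
import Mathlib.RingTheory.Idempotents

/-!
# Lifting ideals with Koszul-regular reduction and flat quotient over Artinian local rings
-/

set_option autoImplicit false
set_option linter.style.haveILetI false
set_option backward.isDefEq.respectTransparency false
set_option maxHeartbeats 1000000
set_option synthInstance.maxHeartbeats 400000

universe u

namespace Groth.Agent.LCIDef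

open Wiebe KoszulLib Matrix IsLocalRing

theorem sup_pow_le {R : Type*} [CommRing R] (a b : Ideal R) (n : ℕ) : (a ⊔ b) ^ n ≤ a ⊔ b ^ n := by
  induction n with
  | zero => simp
  | succ n ih =>
    rw [pow_succ]
    refine (Ideal.mul_mono_left ih).trans ?_
    rw [Ideal.sup_mul, Ideal.mul_sup, Ideal.mul_sup, pow_succ]
    exact sup_le (sup_le (Ideal.mul_le_left.trans le_sup_left) (Ideal.mul_le_left.trans le_sup_left))
      (sup_le (Ideal.mul_le_right.trans le_sup_left) le_sup_right)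

theorem matrix_pow_eq_zero {R : Type*} [CommRing R] {ι : Type*} [Fintype ι] [DecidableEq ι] (L : Ideal R)
    (n : ℕ) (hL : L ^ n = ⊥) (X : Matrix ι ι R) (hX : ∀ i j, X i j ∈ L) : X ^ n = 0 := by
  have h : ∀ m i j, (X ^ m) i j ∈ L ^ m := by
    intro m
    induction m with
    | zero => intro i j; simp
    | succ m ih =>
      intro i j
      rw [pow_succ, pow_succ, Matrix.mul_apply]
      exact sum_mem fun l _ => Ideal.mul_mem_mul (ih i l) (hX l j)
  ext i j
  have := h n i j
  rw [hL] at this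
  exact this

theorem exists_idem_lift {R S : Type*} [CommRing R] [CommRing S] (q : R →+* S) (hq : Function.Surjective q)
    (n : ℕ) (hn : RingHom.ker q ^ n = ⊥) {ι : Type*} [Fintype ι] [DecidableEq ι] (E : Matrix ι ι S)
    (hE : E * E = E) : ∃ F : Matrix ι ι R, F * F = F ∧ F.map q = E := by
  refine exists_isIdempotentElem_eq_of_ker_isNilpotent (R := Matrix ι ι R) (S := Matrix ι ι S)
    (f := q.mapMatrix) (fun X hX => ⟨n, ?_⟩) E
    ⟨E.map (Function.surjInv hq), ?_⟩ hE
  · refine matrix_pow_eq_zero _ n hn X fun i j => ?_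
    have h0 := RingHom.mem_ker.mp hX
    exact congrFun (congrFun h0 i) j
  · ext i j
    simp [Function.surjInv_eq hq]

/-- Flatness of a quotient read in the local rings. -/
theorem flat_quot_of_local {C P : Type u} [CommRing C] [CommRing P] [Algebra C P] (J : Ideal P)
    (h : ∀ (z : Ideal P) [z.IsMaximal], Module.Flat C
      (Localization.AtPrime z ⧸ J.map (algebraMap P (Localization.AtPrime z)))) :
    Module.Flat C (P ⧸ J) := by
  classical
  let T := fun (z : Ideal P) [z.IsMaximal] => Localization.AtPrime z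
  let k := fun (z : Ideal P) [z.IsMaximal] => (Submodule.liftQ J
      ((Ideal.Quotient.mkₐ P (J.map (algebraMap P (T z)))).toLinearMap ∘ₗ Algebra.linearMap P (T z)) fun x hx =>
        Ideal.Quotient.eq_zero_iff_mem.2 (Ideal.mem_map_of_mem _ hx) :
    (P ⧸ J) →ₗ[P] T z ⧸ J.map (algebraMap P (T z)))
  refine Module.flat_of_isLocalized_maximal (R := C) P (P ⧸ J)
    (fun z _ => LocalizedModule z.primeCompl (P ⧸ J)) (fun z _ => LocalizedModule.mkLinearMap z.primeCompl _)
    fun z _ => ?_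
  haveI : IsLocalizedModule z.primeCompl (k z) := by
    refine ⟨fun a => ?_, fun y => ?_, fun {y y'} hy => ?_⟩
    · rw [Module.End.isUnit_iff]
      have hu := (IsLocalization.map_units (T z) a).map (Ideal.Quotient.mk (J.map (algebraMap P (T z))))
      have : Function.Bijective fun y : T z ⧸ J.map (algebraMap P (T z)) =>
          Ideal.Quotient.mk _ (algebraMap P (T z) a) * y :=
        IsUnit.isUnit_iff_mulLeft_bijective.mp hu
      convert this using 1
      funext y
      obtain ⟨y, rfl⟩ := Ideal.Quotient.mk_surjective y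
      rw [Module.algebraMap_end_apply]
      show Ideal.Quotient.mk _ ((a : P) • y) = _
      rw [Algebra.smul_def, map_mul]
    · obtain ⟨y, rfl⟩ := Ideal.Quotient.mk_surjective y
      obtain ⟨⟨x, s⟩, hs⟩ := IsLocalization.surj z.primeCompl y
      refine ⟨(Ideal.Quotient.mk J x, s), ?_⟩
      change Ideal.Quotient.mk (J.map (algebraMap P (T z))) ((s : P) • y) =
        Ideal.Quotient.mk (J.map (algebraMap P (T z))) (algebraMap P (T z) x)
      rw [← hs, Algebra.smul_def, mul_comm y]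
    · obtain ⟨x, rfl⟩ := Ideal.Quotient.mk_surjective y
      obtain ⟨x', rfl⟩ := Ideal.Quotient.mk_surjective y'
      have h1 : algebraMap P (T z) x - algebraMap P (T z) x' ∈ J.map (algebraMap P (T z)) :=
        Ideal.Quotient.eq.1 hy
      rw [← map_sub, IsLocalization.algebraMap_mem_map_algebraMap_iff z.primeCompl] at h1
      obtain ⟨a, ha, hax⟩ := h1
      refine ⟨⟨a, ha⟩, ?_⟩
      change Ideal.Quotient.mk J (a * x) = Ideal.Quotient.mk J (a * x')
      rwa [Ideal.Quotient.eq, ← mul_sub]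
  haveI := h z
  exact Module.Flat.of_linearEquiv ((IsLocalizedModule.iso z.primeCompl (k z)).restrictScalars C)

/-- Generators corrected by a lifted projector of the conormal module. -/
theorem exists_corrected {P : Type u} [CommRing P] [IsNoetherianRing P] (J M : Ideal P) (N : ℕ)
    (hKAt : ∀ z : PrimeSpectrum (P ⧸ M), KAt (J.map (Ideal.Quotient.mk M)) z.asIdeal) :
    ∃ (r : ℕ) (f w : Fin r → P), Ideal.span (Set.range f) = J ∧ (∀ i, w i ∈ J) ∧
      (∀ i, f i - w i ∈ J * J ⊔ M) ∧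
      ∀ d : Fin r → P, d ⬝ᵥ f ∈ M → ∃ D : Fin r → P, (∀ l, D l ∈ J ⊔ M) ∧
        d ⬝ᵥ w - D ⬝ᵥ w ∈ (J ⊔ M) ^ (N + 1) := by
  classical
  let mk0 := Ideal.Quotient.mk M
  let I0 := J.map mk0
  let Ih := J ⊔ M
  let q : P →+* (P ⧸ M) ⧸ I0 := (Ideal.Quotient.mk I0).comp mk0
  have hq : Function.Surjective q := Ideal.Quotient.mk_surjective.comp Ideal.Quotient.mk_surjective
  have hkq : RingHom.ker q = Ih := by
    rw [← RingHom.comap_ker, Ideal.mk_ker,
      Ideal.comap_map_of_surjective _ Ideal.Quotient.mk_surjective, ← RingHom.ker_eq_comap_bot, Ideal.mk_ker]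
  obtain ⟨r, f, hf⟩ := Submodule.fg_iff_exists_fin_generating_family.mp (IsNoetherian.noetherian J)
  have hfJ : ∀ i, f i ∈ J := fun i => hf ▸ Submodule.subset_span ⟨i, rfl⟩
  have hI0 : I0 = Ideal.span (Set.range fun i => mk0 (f i)) := by
    show J.map mk0 = _
    rw [show J = Ideal.span (Set.range f) from hf.symm, Ideal.map_span, ← Set.range_comp]
    rfl
  let B := (P ⧸ M) ⧸ I0
  obtain ⟨hfin, hproj⟩ := cotangent_finite_projective hKAt
  let cls : Fin r → I0.Cotangent := fun i => I0.toCotangent ⟨mk0 (f i), Ideal.mem_map_of_mem _ (hfJ i)⟩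
  let π := Fintype.linearCombination B cls
  have hπ : ∀ c : Fin r → P, π (fun i => q (c i)) =
      I0.toCotangent (∑ i, mk0 (c i) • (⟨mk0 (f i), Ideal.mem_map_of_mem _ (hfJ i)⟩ : I0)) := fun c => by
    rw [toCotangent_sum]; simp [π, cls, q, Fintype.linearCombination_apply]
  have hπs : Function.Surjective π := fun y => by
    obtain ⟨⟨x, hx⟩, rfl⟩ := Ideal.toCotangent_surjective I0 y
    have hx' : x ∈ Ideal.span (Set.range fun i => mk0 (f i)) := hI0 ▸ hx
    obtain ⟨c, hc⟩ := Ideal.mem_span_range_iff_exists_fun.mp hx'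
    choose c' hc' using fun i => Ideal.Quotient.mk_surjective (c i)
    refine ⟨fun i => q (c' i), (hπ c').trans (congrArg _ (Subtype.ext ?_))⟩
    simpa [mk0, hc'] using hc
  obtain ⟨σ, hσ⟩ := Module.projective_lifting_property π (LinearMap.id : I0.Cotangent →ₗ[B] _) hπs
  have hσ' : ∀ y, π (σ y) = y := fun y => congr($hσ y)
  let E : Matrix (Fin r) (Fin r) B := Matrix.of fun i => σ (π (Pi.single i 1))
  have hE : ∀ v : Fin r → B, v ᵥ* E = σ (π v) := fun v => by
    conv_rhs => rw [show v = ∑ i, v i • Pi.single i (1 : B) by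
      funext j; simp [Pi.single_apply]]
    rw [Matrix.vecMul_eq_sum, map_sum, map_sum]
    exact Finset.sum_congr rfl fun i _ => by rw [map_smul, map_smul]; rfl
  have hEE : E * E = E := by
    funext i
    rw [Matrix.mul_apply_eq_vecMul, hE]
    show σ (π (σ (π (Pi.single i 1)))) = σ (π (Pi.single i 1))
    rw [hσ']
  -- the idempotent lifts modulo a power of the ideal of the closed fibre
  let qQ : P ⧸ Ih ^ (N + 1) →+* B := Ideal.Quotient.lift _ q fun x hx =>
    RingHom.mem_ker.mp (hkq ▸ Ideal.pow_le_self (Nat.succ_ne_zero N) hx)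
  have hkQ : RingHom.ker qQ ^ (N + 1) = ⊥ := by
    rw [show RingHom.ker qQ = Ih.map (Ideal.Quotient.mk _) from ?_, ← Ideal.map_pow, Ideal.map_quotient_self]
    refine le_antisymm (fun x hx => ?_) (Ideal.map_le_iff_le_comap.mpr fun x hx => ?_)
    · obtain ⟨x, rfl⟩ := Ideal.Quotient.mk_surjective x
      exact Ideal.mem_map_of_mem _ (hkq ▸ RingHom.mem_ker.mpr (by simpa [qQ] using hx))
    · rw [← hkq] at hx
      simpa [qQ, RingHom.mem_ker] using hx
  obtain ⟨F, hFF, hF⟩ := exists_idem_lift qQ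
    (Ideal.Quotient.lift_surjective_of_surjective _ _ hq) (N + 1) hkQ E hEE
  let G : Matrix (Fin r) (Fin r) P := F.map (Function.surjInv Ideal.Quotient.mk_surjective)
  have hGF : G.map (Ideal.Quotient.mk _) = F := by ext i j; simp [G, Function.surjInv_eq]
  have hGq : G.map q = E := by
    rw [← hF, ← hGF]; ext i j; simp [qQ]; rfl
  have hGG : ∀ i j, (G * G) i j - G i j ∈ Ih ^ (N + 1) := fun i j => by
    rw [← Ideal.Quotient.eq_zero_iff_mem, map_sub, sub_eq_zero]
    have := congrFun (congrFun hFF i) j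
    rw [← hGF, ← Matrix.map_mul] at this
    exact this
  let w : Fin r → P := G *ᵥ f
  have hwJ : ∀ i, w i ∈ J := fun i => by
    show ∑ l, G i l * f l ∈ J
    exact sum_mem fun l _ => Ideal.mul_mem_left _ _ (hfJ l)
  -- the corrected generators agree with the old ones to first order
  have hfw : ∀ i, f i - w i ∈ J * J ⊔ M := fun i => by
    have h1 : π (fun l => q (G i l)) = π (Pi.single i 1) := by
      rw [show (fun l => q (G i l)) = E i from funext fun l => congrFun (congrFun hGq i) l]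
      exact hσ' _
    have h2 : π (Pi.single i 1) = I0.toCotangent ⟨mk0 (f i), Ideal.mem_map_of_mem _ (hfJ i)⟩ := by
      simp [π, cls, Fintype.linearCombination_apply, Pi.single_apply, ite_smul]
    rw [hπ, h2, eq_comm, ← sub_eq_zero, ← map_sub, Ideal.toCotangent_eq_zero] at h1
    have h3 : mk0 (f i - w i) ∈ I0 ^ 2 := by
      simpa [w, Matrix.mulVec, dotProduct, map_sum] using h1
    rw [← Ideal.map_pow, ← Ideal.mem_comap,
      Ideal.comap_map_of_surjective _ Ideal.Quotient.mk_surjective, ← RingHom.ker_eq_comap_bot,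
      Ideal.mk_ker, pow_two] at h3
    exact h3
  refine ⟨r, f, w, hf, hwJ, hfw, fun d hdf => ?_⟩
  have hd : π (fun l => q (d l)) = 0 := by
    rw [hπ]
    have h1 : mk0 (d ⬝ᵥ f) = 0 := Ideal.Quotient.eq_zero_iff_mem.mpr hdf
    rw [show ∑ l, mk0 (d l) • (⟨mk0 (f l), Ideal.mem_map_of_mem _ (hfJ l)⟩ : I0) = 0 from
      Subtype.ext (by simpa [dotProduct, map_sum] using h1), map_zero]
  let D := d ᵥ* G
  have hD : ∀ l, D l ∈ Ih := fun l => by
    rw [← hkq, RingHom.mem_ker]
    have h1 : (fun l => q (d l)) ᵥ* E = 0 := by rw [hE, hd, map_zero]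
    rw [← hGq] at h1
    exact (RingHom.map_vecMul q G d l).trans (congrFun h1 l)
  have hDD : ∀ l, D l - (D ᵥ* G) l ∈ Ih ^ (N + 1) := fun l => by
    have : D l - (D ᵥ* G) l = -∑ m, d m * ((G * G) m l - G m l) := by
      rw [show (D ᵥ* G) l = ∑ m, d m * (G * G) m l from congrFun (Matrix.vecMul_vecMul d G G) l]
      simp only [mul_sub, Finset.sum_sub_distrib, neg_sub]
      rfl
    rw [this]
    exact neg_mem (sum_mem fun m _ => Ideal.mul_mem_left _ _ (hGG m l))
  have hdw : d ⬝ᵥ w - D ⬝ᵥ w ∈ Ih ^ (N + 1) := by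
    rw [show d ⬝ᵥ w = D ⬝ᵥ f from Matrix.dotProduct_mulVec _ _ _,
      show D ⬝ᵥ w = (D ᵥ* G) ⬝ᵥ f from Matrix.dotProduct_mulVec _ _ _, ← sub_dotProduct]
    exact sum_mem fun l _ => Ideal.mul_mem_right _ _ (hDD l)
  exact ⟨D, hD, hdw⟩

/-- The corrected generators give a flat quotient near each maximal ideal. -/
theorem flat_local {C : Type u} [CommRing C] [IsLocalRing C] [IsArtinianRing C]
    {P : Type u} [CommRing P] [Algebra C P] [IsNoetherianRing P] [Module.Flat C P]
    (J : Ideal P) (M : Ideal P) (hM : M = (maximalIdeal C).map (algebraMap C P)) (N : ℕ) (hN : M ^ N = ⊥)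
    (hKAt : ∀ z : PrimeSpectrum (P ⧸ M), KAt (J.map (Ideal.Quotient.mk M)) z.asIdeal)
    {r : ℕ} (f w : Fin r → P) (hf : Ideal.span (Set.range f) = J) (hwJ : ∀ i, w i ∈ J)
    (hfw : ∀ i, f i - w i ∈ J * J ⊔ M)
    (hcor : ∀ d : Fin r → P, d ⬝ᵥ f ∈ M → ∃ D : Fin r → P, (∀ l, D l ∈ J ⊔ M) ∧
      d ⬝ᵥ w - D ⬝ᵥ w ∈ (J ⊔ M) ^ (N + 1))
    (z : Ideal P) [hz : z.IsMaximal] :
    Module.Flat C (Localization.AtPrime z ⧸
      (Ideal.span (Set.range w) ⊔ (J ⊔ M) ^ (N + 1)).map (algebraMap P (Localization.AtPrime z))) := by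
  classical
  let mk0 := Ideal.Quotient.mk M
  let I0 := J.map mk0
  let Ih := J ⊔ M
  let W := Ideal.span (Set.range w)
  let J' := W ⊔ Ih ^ (N + 1)
  have hfJ : ∀ i, f i ∈ J := fun i => hf ▸ Submodule.subset_span ⟨i, rfl⟩
  have hI0 : I0 = Ideal.span (Set.range fun i => mk0 (f i)) := by
    show J.map mk0 = _
    rw [show J = Ideal.span (Set.range f) from hf.symm, Ideal.map_span, ← Set.range_comp]
    rfl
  let T := Localization.AtPrime z
  let φ := algebraMap P T
  by_cases hle : Ih ≤ z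
  swap
  · have htop : J'.map φ = ⊤ := by
      obtain ⟨x, hxI, hxz⟩ := SetLike.not_le_iff_exists.mp hle
      refine Ideal.eq_top_of_isUnit_mem _
        (Ideal.mem_map_of_mem φ (Submodule.mem_sup_right (Ideal.pow_mem_pow hxI (N + 1)))) ?_
      rw [map_pow]
      exact (IsLocalization.map_units T (⟨x, hxz⟩ : z.primeCompl)).pow _
    haveI : Subsingleton (T ⧸ J'.map φ) := Ideal.Quotient.subsingleton_iff.mpr htop
    infer_instance
  haveI : Module.Flat P T := IsLocalization.flat T z.primeCompl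
  haveI : Module.Flat C T := Module.Flat.trans C P T
  haveI : IsNoetherianRing T := IsLocalization.isNoetherianRing z.primeCompl T inferInstance
  let MT := (maximalIdeal C).map (algebraMap C T)
  have hMT : MT = M.map φ := by rw [hM, Ideal.map_map, ← IsScalarTower.algebraMap_eq]
  haveI hz0 : (z.map mk0).IsPrime :=
    Ideal.map_isPrime_of_surjective Ideal.Quotient.mk_surjective (by rw [Ideal.mk_ker]; exact le_sup_right.trans hle)
  obtain ⟨g, hg, c, h, hS, hk⟩ := exists_kGen_exchange (hKAt ⟨z.map mk0, hz0⟩)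
    (Ideal.map_mono (le_sup_left.trans hle)) (Fin.elim0 : Fin 0 → P ⧸ M) (fun i => i.elim0)
    (fun b _ i => i.elim0) (Set.range fun i => mk0 (f i))
    (fun x hx => (show x ∈ I0 by rw [hI0]; exact Ideal.subset_span hx)) (le_sup_of_le_right hI0.le)
  choose s hs using hS
  obtain ⟨g, rfl⟩ := Ideal.Quotient.mk_surjective g
  have hgz : g ∉ z := fun hgz => hg (Ideal.mem_map_of_mem mk0 hgz)
  -- the chosen generators in the local ring of the closed fibre
  let T0 := T ⧸ MT
  letI : Algebra (P ⧸ M) T0 := (Ideal.quotientMap MT φ (by rw [hMT]; exact Ideal.le_comap_map)).toAlgebra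
  haveI : IsScalarTower P (P ⧸ M) T0 := IsScalarTower.of_algebraMap_eq fun x => rfl
  haveI : Module.Flat (P ⧸ M) T0 := flat_quot_quot M hMT
  obtain ⟨hspan, hac⟩ := hk.extend T0 (show IsUnit (Ideal.Quotient.mk MT (φ g)) from
    (IsLocalization.map_units T (⟨g, hgz⟩ : z.primeCompl)).map _)
  let happ := algebraMap (P ⧸ M) T0 ∘ Fin.append (Fin.elim0 : Fin 0 → P ⧸ M) h
  have hrange : Set.range (Fin.append (Fin.elim0 : Fin 0 → P ⧸ M) h) = Set.range h := by
    refine Set.Subset.antisymm ?_ ?_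
    · rintro _ ⟨i, rfl⟩
      induction i using Fin.addCases with
      | left i => exact i.elim0
      | right i => exact ⟨i, (Fin.append_right _ _ i).symm⟩
    · rintro _ ⟨i, rfl⟩; exact ⟨Fin.natAdd 0 i, Fin.append_right _ _ i⟩
  -- relations
  have hrel : ∀ i, ∃ (e : ℕ) (a : Fin c → P), g ^ e * f i - ∑ j, a j * f (s j) ∈ M := fun i => by
    obtain ⟨e, he⟩ := hk.mul_mem (Ideal.mem_map_of_mem mk0 (hfJ i))
    rw [hrange] at he
    obtain ⟨a, ha⟩ := Ideal.mem_span_range_iff_exists_fun.mp he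
    choose a' ha' using fun j => Ideal.Quotient.mk_surjective (a j)
    refine ⟨e, a', Ideal.Quotient.eq_zero_iff_mem.mp ?_⟩
    rw [map_sub, map_mul, map_pow, map_sum, ← ha, sub_eq_zero]
    exact Finset.sum_congr rfl fun j _ => by rw [map_mul, ha', ← hs j]
  choose e a ha using hrel
  let WS := Ideal.span (Set.range fun j => φ (w (s j)))
  have hu : ∀ i, IsUnit (φ (g ^ e i)) := fun i =>
    IsLocalization.map_units T (⟨g ^ e i, fun hmem => hgz (Ideal.IsPrime.mem_of_pow_mem inferInstance _ hmem)⟩ :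
      z.primeCompl)
  have hjac : Ih.map φ ≤ Ideal.jacobson ⊥ := by
    rw [IsLocalRing.jacobson_eq_maximalIdeal _ bot_ne_top, ← Localization.AtPrime.map_eq_maximalIdeal]
    exact Ideal.map_mono hle
  have hIhT : Ih.map φ ≤ WS ⊔ MT := by
    refine Submodule.le_of_le_smul_of_le_jacobson_bot (IsNoetherian.noetherian _) hjac ?_
    have hM' : M.map φ ≤ WS ⊔ MT ⊔ Ih.map φ • Ih.map φ := hMT ▸ le_sup_right.trans le_sup_left
    have hfs : ∀ j, φ (f (s j)) ∈ WS ⊔ MT ⊔ Ih.map φ • Ih.map φ := fun j => by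
      rw [show f (s j) = w (s j) + (f (s j) - w (s j)) by ring, map_add]
      refine add_mem (Submodule.mem_sup_left (Submodule.mem_sup_left (Ideal.subset_span ⟨j, rfl⟩))) ?_
      have h1 := Ideal.mem_map_of_mem φ (hfw (s j))
      rw [Ideal.map_sup, Ideal.map_mul] at h1
      refine sup_le (le_sup_of_le_right ?_) hM' h1
      rw [smul_eq_mul]
      exact Ideal.mul_mono (Ideal.map_mono le_sup_left) (Ideal.map_mono le_sup_left)
    show (J ⊔ M).map φ ≤ _
    refine (Ideal.map_sup _ _ _).trans_le (sup_le ?_ hM')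
    refine ((congrArg (Ideal.map φ) hf.symm).trans (Ideal.map_span φ _)).trans_le ?_
    refine Ideal.span_le.mpr ?_
    rintro _ ⟨_, ⟨i, rfl⟩, rfl⟩
    rw [SetLike.mem_coe, ← Ideal.unit_mul_mem_iff_mem _ (hu i), ← map_mul,
      show g ^ e i * f i = (g ^ e i * f i - ∑ j, a i j * f (s j)) + ∑ j, a i j * f (s j) by ring, map_add, map_sum]
    refine add_mem (hM' (Ideal.mem_map_of_mem φ (ha i))) (sum_mem fun j _ => ?_)
    rw [map_mul]
    exact Ideal.mul_mem_left _ _ (hfs j)
  have hpow : (Ih ^ (N + 1)).map φ ≤ WS := by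
    rw [Ideal.map_pow]
    refine (Ideal.pow_right_mono hIhT _).trans ((sup_pow_le _ _ _).trans (sup_le le_rfl ?_))
    rw [hMT, ← Ideal.map_pow, pow_succ, hN, Ideal.bot_mul, Ideal.map_bot]
    exact bot_le
  have hWT : W.map φ ≤ WS := by
    refine Submodule.le_of_le_smul_of_le_jacobson_bot (IsNoetherian.noetherian _) hjac ?_
    rw [Ideal.map_span]
    refine Ideal.span_le.mpr ?_
    rintro _ ⟨_, ⟨i, rfl⟩, rfl⟩
    let d : Fin r → P := Pi.single i (g ^ e i) - ∑ j, Pi.single (s j) (a i j)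
    have hdsum : ∀ v : Fin r → P, d ⬝ᵥ v = g ^ e i * v i - ∑ j, a i j * v (s j) := fun v => by
      simp only [d, sub_dotProduct, sum_dotProduct, single_dotProduct]
    obtain ⟨D, hD, hdw⟩ := hcor d (by rw [hdsum]; exact ha i)
    rw [SetLike.mem_coe, ← Ideal.unit_mul_mem_iff_mem _ (hu i), ← map_mul,
      show g ^ e i * w i = (d ⬝ᵥ w - D ⬝ᵥ w) + D ⬝ᵥ w + ∑ j, a i j * w (s j) by rw [hdsum]; ring,
      map_add, map_add, map_sum]
    refine add_mem (add_mem (Submodule.mem_sup_left (hpow (Ideal.mem_map_of_mem φ hdw))) ?_) (sum_mem fun j _ => ?_)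
    · refine Submodule.mem_sup_right ?_
      rw [smul_eq_mul, ← Ideal.map_span, ← Ideal.map_mul]
      exact Ideal.mem_map_of_mem φ (sum_mem fun l _ => Ideal.mul_mem_mul (hD l) (Ideal.subset_span ⟨l, rfl⟩))
    · rw [map_mul]
      exact Submodule.mem_sup_left (Ideal.mul_mem_left _ _ (Ideal.subset_span ⟨j, rfl⟩))
  have hJ' : J'.map φ = WS := by
    refine le_antisymm ((Ideal.map_sup _ _ _).trans_le (sup_le hWT hpow)) (Ideal.span_le.mpr ?_)
    rintro _ ⟨j, rfl⟩
    exact Ideal.mem_map_of_mem φ (Submodule.mem_sup_left (Ideal.subset_span ⟨_, rfl⟩))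
  have hac' : Acyclic fun j => Ideal.Quotient.mk MT (φ (w (s j))) := by
    refine acyclic_of_length_le hac ?_ (by omega)
    rw [← hspan, show Ideal.span (Set.range fun j => Ideal.Quotient.mk MT (φ (w (s j)))) =
      WS.map (Ideal.Quotient.mk MT) by rw [Ideal.map_span, ← Set.range_comp]; rfl]
    show (J.map mk0).map (algebraMap (P ⧸ M) T0) = _
    rw [Ideal.map_map, show (algebraMap (P ⧸ M) T0).comp mk0 = (Ideal.Quotient.mk MT).comp φ from rfl,
      ← Ideal.map_map]
    refine le_antisymm ?_ ?_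
    · refine (Ideal.map_mono ((Ideal.map_mono (le_sup_left : J ≤ Ih)).trans hIhT)).trans ?_
      rw [Ideal.map_sup, Ideal.map_quotient_self, sup_bot_eq]
    · refine Ideal.map_mono (Ideal.span_le.mpr ?_)
      rintro _ ⟨j, rfl⟩
      exact Ideal.mem_map_of_mem φ (hwJ _)
  haveI : (maximalIdeal C).IsMaximal := inferInstance
  letI : Field (C ⧸ maximalIdeal C) := Ideal.Quotient.field _
  haveI : Module.Flat (C ⧸ maximalIdeal C) ((T ⧸ MT) ⧸
      Ideal.span (Set.range fun j => Ideal.Quotient.mk MT (φ (w (s j))))) := inferInstance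
  have := (artin_lift (maximalIdeal C) (maximalIdeal.isMaximal C).ne_top (fun j => φ (w (s j))) hac').1
  show Module.Flat C (T ⧸ J'.map φ)
  exact Module.Flat.of_linearEquiv ((Submodule.quotEquivOfEq _ _ hJ').restrictScalars C)

/-- **The lifting.** `K ≤ M := 𝔪 P`, `J ⊇ K`, `J ∩ M ⊆ M J + K`, and the image of `J` in `P ⧸ M` is Koszul-regular:
there is an ideal `J' ⊆ J` with flat quotient and `J = J' + K`. -/
theorem exists_flat_lift {C : Type u} [CommRing C] [IsLocalRing C] [IsArtinianRing C]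
    {P : Type u} [CommRing P] [Algebra C P] [IsNoetherianRing P] [Module.Flat C P]
    (J K : Ideal P) (hKJ : K ≤ J) (hKM : K ≤ (maximalIdeal C).map (algebraMap C P))
    (hflat : J ⊓ (maximalIdeal C).map (algebraMap C P) ≤ (maximalIdeal C).map (algebraMap C P) * J ⊔ K)
    (hKAt : ∀ z : PrimeSpectrum (P ⧸ (maximalIdeal C).map (algebraMap C P)),
      KAt (J.map (Ideal.Quotient.mk ((maximalIdeal C).map (algebraMap C P)))) z.asIdeal) :
    ∃ J' : Ideal P, J' ≤ J ∧ J ≤ J' ⊔ K ∧ Module.Flat C (P ⧸ J') := by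
  classical
  set M := (maximalIdeal C).map (algebraMap C P) with hM
  obtain ⟨N, hN⟩ : ∃ N : ℕ, M ^ N = ⊥ := by
    obtain ⟨N, hN⟩ := FlatLift.exists_pow_eq_bot C
    exact ⟨N, by rw [hM, ← Ideal.map_pow, hN, Ideal.map_bot]⟩
  let Ih := J ⊔ M
  have hIhN : Ih ^ N ≤ J := (sup_pow_le J M N).trans (by rw [hN, sup_bot_eq])
  obtain ⟨r, f, w, hf, hwJ, hfw, hcor⟩ := exists_corrected J M N hKAt
  have hfJ : ∀ i, f i ∈ J := fun i => hf ▸ Submodule.subset_span ⟨i, rfl⟩
  let W := Ideal.span (Set.range w)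
  have hWJ : W ≤ J := Ideal.span_le.mpr (by rintro _ ⟨i, rfl⟩; exact hwJ i)
  have hfw' : ∀ i, f i - w i ∈ Ih * J ⊔ K := fun i => by
    obtain ⟨y, hy, z, hz, hyz⟩ := Submodule.mem_sup.mp (hfw i)
    have hzJ : z ∈ J := by
      rw [show z = f i - w i - y by rw [← hyz]; ring]
      exact sub_mem (sub_mem (hfJ i) (hwJ i)) (Ideal.mul_le_right hy)
    rw [← hyz]
    exact add_mem (Submodule.mem_sup_left (Ideal.mul_mono_left le_sup_left hy))
      (sup_le_sup_right (Ideal.mul_mono_left le_sup_right) K (hflat ⟨hzJ, hz⟩))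
  have hJW : ∀ n : ℕ, J ≤ W ⊔ Ih ^ n * J ⊔ K := by
    intro n
    induction n with
    | zero => rw [pow_zero, Ideal.one_eq_top, Ideal.top_mul]; exact le_sup_right.trans le_sup_left
    | succ n ih =>
      have h1 : J ≤ W ⊔ Ih * J ⊔ K := by
        conv_lhs => rw [show J = Ideal.span (Set.range f) from hf.symm]
        refine Ideal.span_le.mpr ?_
        rintro _ ⟨i, rfl⟩
        rw [SetLike.mem_coe, show f i = w i + (f i - w i) by ring, sup_assoc]
        exact Submodule.add_mem_sup (Ideal.subset_span ⟨i, rfl⟩) (hfw' i)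
      refine ih.trans (sup_le (sup_le (le_sup_left.trans le_sup_left) ?_) le_sup_right)
      refine (Ideal.mul_mono_right h1).trans ?_
      rw [Ideal.mul_sup, Ideal.mul_sup, ← mul_assoc, ← pow_succ]
      exact sup_le (sup_le ((Ideal.mul_le_right).trans (le_sup_left.trans le_sup_left))
        (le_sup_right.trans le_sup_left)) (Ideal.mul_le_right.trans le_sup_right)
  let J' := W ⊔ Ih ^ (N + 1)
  refine ⟨J', sup_le hWJ ((Ideal.pow_le_pow_right N.le_succ).trans hIhN), ?_, ?_⟩
  · exact (hJW (N + 1)).trans (sup_le_sup_right (sup_le_sup_left Ideal.mul_le_left W) K)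
  exact flat_quot_of_local J' fun z _ => flat_local J M hM N hN hKAt f w hf hwJ hfw hcor z

end Groth.Agent.LCIDef
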